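import Cfsg.Agent.Lib.BitPerm.Rep
import Cfsg.Agent.Lib.PresCert.Presented

/-!
Actions of presented groups on the points of a system of networks.
-/

namespace CfsgLib.BitPerm

open Cfsg.Spor CfsgLib.PresCert

namespace Sys

variable (S : Sys)

/-- the points below `n` are invariant under every letter in a range -/
noncomputable def okInside (n lo len : Nat) : Bool :=
  force (Nat.sub (Nat.shiftLeft 1 n) 1) fun F =>
    allLt len fun j => Nat.beq (S.act (Nat.add lo j) F) F

variable {S}

/-- every letter preserves the points below `n` -/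
def Inside (S : Sys) (n : Nat) : Prop := ∀ x i, S.pt x i < n ↔ i < n

theorem inside_of_okInside (h : S.okNets = true) {n : Nat} (ho : S.okInside n 0 S.g = true) :
    Inside S n := by
  intro x i
  by_cases hx : x < S.g
  · rw [okInside, force_eq] at ho
    have e := Nat.eq_of_beq_eq_true (allLt_spec ho x hx)
    rw [show Nat.add 0 x = x from Nat.zero_add x] at e
    have key : ∀ j, (Nat.sub (Nat.shiftLeft 1 n) 1).testBit j = decide (j < n) := fun j => by
      change ((1 <<< n) - 1).testBit j = _
      rw [Nat.one_shiftLeft, Nat.testBit_two_pow_sub_one]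
    have := congrArg (fun B => Nat.testBit B i) e
    simp only [testBit_act h, key, decide_eq_decide] at this
    exact this
  · simp [pt, net, List.getD_eq_getElem?_getD,
      List.getElem?_eq_none (show S.nets.length ≤ x from not_lt.1 hx), Net.pt]

theorem perm_lt (h : S.okNets = true) {n : Nat} (hi : Inside S n) {x i : Nat} :
    perm h x i < n ↔ i < n := by
  conv_rhs => rw [← Net.pt_reverse' (ok_net h x) i]
  exact (hi x _).symm

/-- the permutation of the points below `n` given by a letter -/
noncomputable def fperm (h : S.okNets = true) {n : Nat} (hi : Inside S n) (x : Nat) :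
    Equiv.Perm (Fin n) where
  toFun i := ⟨perm h x i, (perm_lt h hi).2 i.2⟩
  invFun i := ⟨S.pt x i, (hi x i).2 i.2⟩
  left_inv i := Fin.ext ((perm h x).symm_apply_apply i)
  right_inv i := Fin.ext ((perm h x).apply_symm_apply i)

theorem fperm_prod_inv (h : S.okNets = true) {n : Nat} (hi : Inside S n) :
    ∀ w (i : Fin n), ((((w.map (fperm h hi)).prod)⁻¹ i : Fin n) : Nat) = S.ptW w i
  | [], _ => rfl
  | x :: w, i => by
    rw [List.map_cons, List.prod_cons, mul_inv_rev, Equiv.Perm.mul_apply, fperm_prod_inv h hi w]
    rfl

theorem fperm_prod_eq_one (h : S.okNets = true) {n : Nat} (hi : Inside S n) {w : List Nat}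
    (hw : ∀ i, S.ptW w i = i) : (w.map (fperm h hi)).prod = 1 := by
  rw [← inv_eq_one]
  exact Equiv.ext fun i => Fin.ext (by rw [fperm_prod_inv h hi, hw]; rfl)

/-- the relator words are covered by a list of words, possibly after reversal -/
noncomputable def okCovered {α : Type*} (idx : α → Nat) (ns : List (List Nat))
    (ws : List (List α)) : Bool :=
  ws.all fun w => ns.contains (w.map idx) || ns.contains (w.map idx).reverse

/-- every word of the list fixes every point -/
def AllFixed (S : Sys) (ns : List (List Nat)) : Prop := ∀ w ∈ ns, ∀ i, S.ptW w i = i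

theorem AllFixed.nil : AllFixed S [] := fun _ hw => absurd hw (List.not_mem_nil)

theorem AllFixed.cons {w : List Nat} {ns : List (List Nat)} (hw : ∀ i, S.ptW w i = i)
    (h : AllFixed S ns) : AllFixed S (w :: ns) := fun v hv => by
  rcases List.mem_cons.1 hv with rfl | hv
  exacts [hw, h v hv]

theorem AllFixed.append {ns ms : List (List Nat)} (h : AllFixed S ns) (h' : AllFixed S ms) :
    AllFixed S (ns ++ ms) := fun v hv => (List.mem_append.1 hv).elim (h v) (h' v)

/-- check several words at once -/
noncomputable def okWords (S : Sys) (ns : List (List Nat)) : Bool :=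
  ns.all fun w => S.okWord w 0 S.k

theorem allFixed_of_okWords (h : S.okNets = true) {ns : List (List Nat)}
    (ho : S.okWords ns = true) : AllFixed S ns := by
  intro w hw i
  simp only [okWords, List.all_eq_true] at ho
  exact ptW_eq_self h (by simpa using planesFixed_of_okWord (ho w hw)) i

theorem fperm_invol (h : S.okNets = true) {n : Nat} (hi : Inside S n) {x : Nat}
    (hx : ∀ i, S.ptW [x, x] i = i) : fperm h hi x * fperm h hi x = 1 := by
  simpa using fperm_prod_eq_one h hi hx

theorem word_eq_one (h : S.okNets = true) {n : Nat} (hi : Inside S n) {α : Type*} [DecidableEq α]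
    (idx : α → Nat)
    {ns : List (List Nat)} {ws : List (List α)} (hns : AllFixed S ns)
    (hsq : ∀ x, fperm h hi (idx x) * fperm h hi (idx x) = 1)
    (hws : okCovered idx ns ws = true) :
    ∀ w ∈ ws, (w.map fun x => fperm h hi (idx x)).prod = 1 := by
  intro w hw
  simp only [okCovered, List.all_eq_true, Bool.or_eq_true, List.contains_iff_mem] at hws
  rcases hws w hw with h1 | h1
  · have := fperm_prod_eq_one h hi (hns _ h1)
    rwa [List.map_map] at this
  · have := fperm_prod_eq_one h hi (hns _ h1)
    rw [← List.map_reverse, List.map_map] at this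
    rw [← inv_eq_one, ← prod_reverse_of_invol (fun x => fperm h hi (idx x)) hsq w]
    exact this

section Rep

variable {α : Type} [DecidableEq α] {edges : List (α × ℕ × α)} {extra : List (FreeGroup α)}
  {ws : List (List α)} {idx : α → Nat} {n : Nat}

theorem fperm_sq (h : S.okNets = true) (hi : Inside S n) {ns : List (List Nat)}
    (hns : AllFixed S ns) (hsqs : ∀ x : α, [idx x, idx x] ∈ ns) (x : α) :
    fperm h hi (idx x) * fperm h hi (idx x) = 1 :=
  fperm_invol h hi (hns _ (hsqs x))

/-- the action of the presented group -/
noncomputable def rep (h : S.okNets = true) (hi : Inside S n) (idx : α → Nat)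
    (hws : WordsFor extra ws) {ns : List (List Nat)} (hns : AllFixed S ns)
    (hsqs : ∀ x : α, [idx x, idx x] ∈ ns) (hk : okCovered idx ns (knownWords edges ws) = true) :
    PresentedGroup (coxRelators edges ∪ {r | r ∈ extra}) →* Equiv.Perm (Fin n) :=
  PresentedGroup.toGroup (f := fun x => fperm h hi (idx x)) (by
    have hw := word_eq_one h hi idx hns (fperm_sq h hi hns hsqs) hk
    rintro r (⟨x, hx, y, hy, rfl⟩ | hr)
    · have := hw (pairWord edges x y)
        (List.mem_append_left _ (List.mem_flatMap.2 ⟨x, hx, List.mem_map.2 ⟨y, hy, rfl⟩⟩))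
      rw [pairWord, prod_map_replicate_pair] at this
      simpa using this
    · have e := hws (fun x => fperm h hi (idx x)) (fperm_sq h hi hns hsqs)
      have : FreeGroup.lift (fun x => fperm h hi (idx x)) r ∈
          ws.map fun w => (w.map fun x => fperm h hi (idx x)).prod :=
        e ▸ List.mem_map.2 ⟨r, hr, rfl⟩
      obtain ⟨w, hwm, e'⟩ := List.mem_map.1 this
      rw [← e']
      exact hw w (List.mem_append_right _ hwm))

theorem rep_of (h : S.okNets = true) (hi : Inside S n) (hws : WordsFor extra ws)
    {ns : List (List Nat)} (hns : AllFixed S ns) (hsqs : ∀ x : α, [idx x, idx x] ∈ ns)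
    (hk : okCovered idx ns (knownWords edges ws) = true) (x : α) :
    rep h hi idx hws hns hsqs hk (pgen edges extra x) = fperm h hi (idx x) := by
  simp [rep, pgen]

theorem rep_word (h : S.okNets = true) (hi : Inside S n) (hws : WordsFor extra ws)
    {ns : List (List Nat)} (hns : AllFixed S ns) (hsqs : ∀ x : α, [idx x, idx x] ∈ ns)
    (hk : okCovered idx ns (knownWords edges ws) = true) (w : List α) (i : Fin n) :
    ((rep h hi idx hws hns hsqs hk ((w.map (pgen edges extra)).prod) i : Fin n) : Nat) =
      S.ptW (w.map idx).reverse i := by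
  rw [map_list_prod, List.map_map]
  have e : (w.map (rep h hi idx hws hns hsqs hk ∘ pgen edges extra)) =
      w.map fun x => fperm h hi (idx x) :=
    List.map_congr_left fun x _ => rep_of h hi hws hns hsqs hk x
  rw [e]
  have hr := prod_reverse_of_invol (fun x => fperm h hi (idx x)) (fperm_sq h hi hns hsqs) w
  have hp := fperm_prod_inv h hi (w.map idx).reverse i
  rw [← List.map_reverse, List.map_map] at hp
  change ((((w.reverse.map fun x => fperm h hi (idx x)).prod)⁻¹ i : Fin n) : Nat) = _ at hp
  rw [hr, inv_inv] at hp
  exact hp.trans (by rw [List.map_reverse])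

end Rep

end Sys

end CfsgLib.BitPerm
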