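import Mathlib

/-!
Permutations of the natural numbers given by networks of delta swaps.

A stage exchanges the bits in positions `i` and `i + d` for every `i` in a mask. Such a stage acts
on a bit set by three bitwise operations, so that composing permutations of a large number of
points only needs a few operations on large numerals.
-/

namespace CfsgLib.BitPerm

/-- a stage of a network -/
structure Stage where
  /-- distance of the swapped positions -/
  d : Nat
  /-- lower positions of the swapped pairs -/
  mask : Nat

namespace Stage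

variable (s : Stage)

/-- action of a stage on a bit set -/
noncomputable def act (B : Nat) : Nat :=
  (fun t => Nat.xor (Nat.xor B t) (Nat.shiftLeft t s.d))
    (Nat.land (Nat.xor (Nat.shiftRight B s.d) B) s.mask)

/-- the pairs are disjoint and below `N` -/
noncomputable def ok (N : Nat) : Bool :=
  Nat.beq (Nat.land s.mask (Nat.shiftLeft s.mask s.d)) 0 &&
    Nat.beq (Nat.shiftRight (Nat.shiftLeft s.mask s.d) N) 0

/-- action of a stage on points -/
def pt (i : Nat) : Nat :=
  if s.mask.testBit i then i + s.d
  else if s.d ≤ i ∧ s.mask.testBit (i - s.d) then i - s.d else i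

variable {s} {N : Nat}

theorem not_mask_add (h : s.ok N = true) {i : Nat} (hi : s.mask.testBit i) :
    s.mask.testBit (i + s.d) = false := by
  simp only [ok, Bool.and_eq_true, Nat.beq_eq] at h
  have h1 : (s.mask &&& (s.mask <<< s.d)).testBit (i + s.d) = false := by
    change (Nat.land s.mask (Nat.shiftLeft s.mask s.d)).testBit (i + s.d) = false
    rw [h.1, Nat.zero_testBit]
  simpa [Nat.testBit_and, Nat.testBit_shiftLeft, hi] using h1

theorem add_lt (h : s.ok N = true) {i : Nat} (hi : s.mask.testBit i) : i + s.d < N := by
  simp only [ok, Bool.and_eq_true, Nat.beq_eq] at h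
  by_contra hn
  have h1 : ((s.mask <<< s.d) >>> N).testBit (i + s.d - N) = false := by
    change (Nat.shiftRight (Nat.shiftLeft s.mask s.d) N).testBit _ = false
    rw [h.2, Nat.zero_testBit]
  rw [Nat.testBit_shiftRight, Nat.testBit_shiftLeft] at h1
  rw [show N + (i + s.d - N) = i + s.d by omega] at h1
  simp [hi] at h1

theorem pt_pt (h : s.ok N = true) (i : Nat) : s.pt (s.pt i) = i := by
  by_cases h1 : s.mask.testBit i
  · simp [pt, h1, not_mask_add h h1]
  · by_cases h2 : s.d ≤ i ∧ s.mask.testBit (i - s.d)
    · simp [pt, h1, h2, Nat.sub_add_cancel h2.1]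
    · simp [pt, h1, h2]

theorem pt_of_le (h : s.ok N = true) {i : Nat} (hi : N ≤ i) : s.pt i = i := by
  have h1 : s.mask.testBit i = false := by
    by_contra h1
    have := add_lt h (by simpa using h1)
    omega
  have h2 : ¬(s.d ≤ i ∧ s.mask.testBit (i - s.d)) := fun h2 => by
    have := add_lt h h2.2
    omega
  simp [pt, h1, h2]

theorem testBit_act (h : s.ok N = true) (B i : Nat) :
    (s.act B).testBit i = B.testBit (s.pt i) := by
  have e : s.act B = (B ^^^ (((B >>> s.d) ^^^ B) &&& s.mask)) ^^^
      ((((B >>> s.d) ^^^ B) &&& s.mask) <<< s.d) := rfl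
  rw [e]
  by_cases h1 : s.mask.testBit i
  · have h2 : s.d ≤ i → s.mask.testBit (i - s.d) = false := fun hd => by
      by_contra h3
      have := not_mask_add h (i := i - s.d) (by simpa using h3)
      rw [Nat.sub_add_cancel hd, h1] at this
      simp at this
    by_cases hd : s.d ≤ i
    · simp [pt, h1, h2 hd, Nat.add_comm]
      cases B.testBit i <;> simp
    · simp [pt, h1, hd, Nat.add_comm]
      cases B.testBit i <;> simp
  · by_cases hd : s.d ≤ i
    · by_cases h3 : s.mask.testBit (i - s.d)
      · simp [pt, h1, h3, hd]
      · simp [pt, h1, h3, hd]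
    · simp [pt, h1, hd]

end Stage

/-- a network -/
abbrev Net := List Stage

namespace Net

/-- all stages are good -/
noncomputable def ok (N : Nat) : Net → Bool
  | [] => true
  | s :: l => s.ok N && ok N l

/-- action of a network on a bit set -/
noncomputable def act : Net → Nat → Nat
  | [], B => B
  | s :: l, B => s.act (act l B)

/-- action of a network on points -/
def pt : Net → Nat → Nat
  | [], i => i
  | s :: l, i => pt l (s.pt i)

variable {N : Nat}

theorem testBit_act : ∀ {l : Net}, ok N l = true → ∀ B i, (act l B).testBit i = B.testBit (pt l i)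
  | [], _, _, _ => rfl
  | s :: l, h, B, i => by
    simp only [ok, Bool.and_eq_true] at h
    simp only [act, pt]
    rw [Stage.testBit_act h.1, testBit_act h.2]

theorem pt_of_le : ∀ {l : Net}, ok N l = true → ∀ {i}, N ≤ i → pt l i = i
  | [], _, _, _ => rfl
  | s :: l, h, i, hi => by
    simp only [ok, Bool.and_eq_true] at h
    simp only [pt]
    rw [Stage.pt_of_le h.1 hi, pt_of_le h.2 hi]

theorem pt_append (l m : Net) (i : Nat) : pt (l ++ m) i = pt m (pt l i) := by
  induction l generalizing i with
  | nil => rfl
  | cons s l ih => simp [pt, ih]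

theorem ok_append (l m : Net) : ok N (l ++ m) = (ok N l && ok N m) := by
  induction l with
  | nil => simp [ok]
  | cons s l ih => simp [ok, ih, Bool.and_assoc]

theorem ok_reverse : ∀ {l : Net}, ok N l = true → ok N l.reverse = true
  | [], _ => rfl
  | s :: l, h => by
    simp only [ok, Bool.and_eq_true] at h
    simp [ok_append, ok, h.1, ok_reverse h.2]

theorem pt_reverse : ∀ {l : Net}, ok N l = true → ∀ i, pt l.reverse (pt l i) = i
  | [], _, _ => rfl
  | s :: l, h, i => by
    simp only [ok, Bool.and_eq_true] at h
    simp only [pt, List.reverse_cons, pt_append]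
    rw [pt_reverse h.2, Stage.pt_pt h.1]

theorem pt_reverse' {l : Net} (h : ok N l = true) (i : Nat) : pt l (pt l.reverse i) = i := by
  simpa using pt_reverse (ok_reverse h) i

end Net

/-- the bit set of points below `2 ^ k` having bit `j` -/
noncomputable def plane (j : Nat) : Nat → Nat
  | 0 => 0
  | k + 1 => bif Nat.ble (k + 1) j then 0 else bif Nat.beq k j then
      Nat.shiftLeft (Nat.sub (Nat.shiftLeft 1 (Nat.pow 2 k)) 1) (Nat.pow 2 k)
    else Nat.lor (plane j k) (Nat.shiftLeft (plane j k) (Nat.pow 2 k))

theorem testBit_plane (j : Nat) : ∀ k i, (plane j k).testBit i = (decide (i < 2 ^ k) && i.testBit j)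
  | 0, i => by
    simp only [plane, Nat.zero_testBit, pow_zero]
    by_cases h : i = 0 <;> simp [h]
  | k + 1, i => by
    simp only [plane]
    have hp : 2 ^ (k + 1) = 2 ^ k + 2 ^ k := by rw [pow_succ]; omega
    rcases Nat.lt_trichotomy k j with h | h | h
    · rw [show Nat.ble (k + 1) j = true by simpa [Nat.ble_eq] using h, cond_true, Nat.zero_testBit]
      by_cases hi : i < 2 ^ (k + 1)
      · simp [Nat.testBit_lt_two_pow (lt_of_lt_of_le hi (Nat.pow_le_pow_right (by norm_num) h))]
      · simp [hi]
    · subst h
      have e : Nat.ble (k + 1) k = false := by simp [← Bool.not_eq_true, Nat.ble_eq]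
      simp only [e, cond_false, Nat.beq_refl, cond_true]
      change (((1 <<< (2 ^ k)) - 1) <<< (2 ^ k)).testBit i = _
      rw [Nat.testBit_shiftLeft, Nat.one_shiftLeft, Nat.testBit_two_pow_sub_one]
      by_cases hi : 2 ^ k ≤ i
      · by_cases hj : i < 2 ^ (k + 1)
        · have : i.testBit k = true := by
            rw [show i = 2 ^ k + (i - 2 ^ k) by omega, Nat.testBit_two_pow_add_eq,
              Nat.testBit_lt_two_pow (by omega)]
            rfl
          simp [hi, hj, this, show i - 2 ^ k < 2 ^ k by omega]
        · simp [hi, hj, show ¬ i - 2 ^ k < 2 ^ k by omega]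
      · simp [hi, Nat.testBit_lt_two_pow (show i < 2 ^ k by omega)]
    · have e : Nat.ble (k + 1) j = false := by simp [← Bool.not_eq_true, Nat.ble_eq]; omega
      have e' : Nat.beq k j = false := by simp [← Bool.not_eq_true, Nat.beq_eq]; omega
      simp only [e, e', cond_false]
      change (plane j k ||| (plane j k) <<< (2 ^ k)).testBit i = _
      rw [Nat.testBit_or, Nat.testBit_shiftLeft, testBit_plane j k, testBit_plane j k]
      by_cases hi : 2 ^ k ≤ i
      · have : i.testBit j = (i - 2 ^ k).testBit j := by
          conv_lhs => rw [show i = 2 ^ k + (i - 2 ^ k) by omega]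
          rw [Nat.testBit_two_pow_add_gt h]
        simp [hi, show ¬ i < 2 ^ k by omega, this, hp, show (i < 2 ^ k + 2 ^ k) ↔ (i - 2 ^ k < 2 ^ k) by omega]
      · simp [hi, show i < 2 ^ k by omega, show i < 2 ^ (k + 1) by omega]

/-- a network fixes all points below `2 ^ k` if it fixes all planes -/
theorem Net.pt_eq_self {l : Net} {k : Nat} (h : Net.ok (2 ^ k) l = true)
    (hp : ∀ j < k, Net.act l (plane j k) = plane j k) (i : Nat) : Net.pt l i = i := by
  by_cases hi : i < 2 ^ k
  · have hlt : Net.pt l i < 2 ^ k := by
      by_contra hn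
      have e := Net.pt_of_le (Net.ok_reverse h) (not_lt.1 hn)
      rw [Net.pt_reverse h] at e
      omega
    refine Nat.eq_of_testBit_eq fun j => ?_
    by_cases hj : j < k
    · have := congrArg (fun B => Nat.testBit B i) (hp j hj)
      simpa [Net.testBit_act h, testBit_plane, hi, hlt] using this
    · rw [Nat.testBit_lt_two_pow (lt_of_lt_of_le hlt (Nat.pow_le_pow_right (by norm_num) (by omega))),
        Nat.testBit_lt_two_pow (lt_of_lt_of_le hi (Nat.pow_le_pow_right (by norm_num) (by omega)))]
  · exact Net.pt_of_le h (not_lt.1 hi)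

end CfsgLib.BitPerm
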