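import Cfsg.Agent.Lib.BitPerm.Rep

/-!
Closing a coset table by bulk deductions on bit sets.

The state records the points reached so far and, for each letter, the points at which the step by
this letter is known to respect cosets of the subgroup. A step either defines new cosets for a
whole bit set at once, or makes all deductions from one rotation of a relator at once.
-/

namespace CfsgLib.BitPerm

/-- a certificate: networks, relators, letters of the subgroup -/
structure Cert extends Sys where
  /-- relators -/
  rels : List (List Nat)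
  /-- letters lying in the subgroup and fixing the point `0` -/
  subs : List Nat

/-- a state of the closure -/
structure St where
  /-- points reached -/
  B : Nat
  /-- known steps of each letter -/
  K : List Nat

namespace St

/-- known steps of a letter -/
noncomputable def get (s : St) (x : Nat) : Nat := s.K.getD x 0

end St

/-- add bits to an entry of a list -/
noncomputable def orAt : List Nat → Nat → Nat → List Nat
  | [], _, _ => []
  | a :: l, 0, v => force (Nat.lor a v) fun b => b :: l
  | a :: l, x + 1, v => a :: orAt l x v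

theorem testBit_orAt : ∀ (l : List Nat) (x v y i : Nat), ((orAt l x v).getD y 0).testBit i = true →
    (l.getD y 0).testBit i = true ∨ (y = x ∧ v.testBit i = true)
  | [], _, _, _, _, h => by simp [orAt] at h
  | a :: l, 0, v, y, i, h => by
    rw [orAt, force_eq] at h
    cases y with
    | zero =>
      change (a ||| v).testBit i = true at h
      rw [Nat.testBit_or, Bool.or_eq_true] at h
      simpa using h
    | succ y => exact .inl (by simpa using h)
  | a :: l, x + 1, v, y, i, h => by
    rw [orAt] at h
    cases y with
    | zero => exact .inl (by simpa using h)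
    | succ y =>
      rcases testBit_orAt l x v y i (by simpa using h) with h1 | ⟨h1, h2⟩
      · exact .inl (by simpa using h1)
      · exact .inr ⟨by rw [h1], h2⟩

/-- a step of the closure -/
inductive Op where
  /-- define cosets by a letter -/
  | define : Nat → Op
  /-- deductions from a rotation of a relator -/
  | rot : Nat → Nat → Op

namespace Cert

variable (C : Cert)

/-- the initial state -/
noncomputable def init : St :=
  ⟨1, (List.range C.g).map fun x => bif C.subs.contains x || C.subs.contains (C.iv x) then 1 else 0⟩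

/-- the basic conditions -/
noncomputable def okBase : Bool :=
  C.okNets && C.subs.all (fun x => Nat.blt x C.g && Nat.beq (C.iv (C.iv x)) x &&
    Nat.beq (Nat.land (C.act x 1) 1) 1 && Nat.beq (Nat.land (C.act (C.iv x) 1) 1) 1)

/-- points at which a path is known -/
noncomputable def path (s : St) : List Nat → Nat
  | [] => s.B
  | [x] => s.get x
  | x :: y :: w => force (path s (y :: w)) fun P => Nat.land (s.get x) (C.act x P)

/-- define new cosets by the letter `x` -/
noncomputable def stepDef (s : St) (x : Nat) : St :=
  force (Nat.xor s.B (Nat.land s.B (C.act x s.B))) fun D =>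
  force (C.act (C.iv x) D) fun D' =>
  force (Nat.lor s.B D') fun B' => ⟨B', orAt (orAt s.K x D) (C.iv x) D'⟩

/-- deductions for the letter `x` from the relator `x :: w` -/
noncomputable def stepRot (s : St) (x : Nat) (w : List Nat) : St :=
  force (C.path s w) fun P =>
  force (Nat.land s.B (C.act x P)) fun D =>
  force (Nat.land (C.act (C.iv x) s.B) P) fun D' => ⟨s.B, orAt (orAt s.K x D) (C.iv x) D'⟩

/-- perform a step -/
noncomputable def step (s : St) : Op → Option St
  | .define x => bif Nat.blt x C.g then some (C.stepDef s x) else none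
  | .rot r i =>
    match (C.rels.getD r []).drop i ++ (C.rels.getD r []).take i with
    | [] => none
    | x :: w => bif Nat.blt x C.g && Nat.blt r C.rels.length then some (C.stepRot s x w) else none

/-- perform several steps -/
noncomputable def run : List Op → St → Option St
  | [], s => some s
  | o :: l, s =>
    match C.step s o with
    | none => none
    | some s' => run l s'

/-- the state is the given one -/
noncomputable def isSt (s : Option St) (B : Nat) (K : List Nat) : Bool :=
  match s with
  | none => false
  | some s => Nat.beq s.B B && decide (s.K = K)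

/-- all `n` points are reached and all their steps are known -/
noncomputable def isFull (s : Option St) (n : Nat) : Bool :=
  match s with
  | none => false
  | some s => force (Nat.sub (Nat.shiftLeft 1 n) 1) fun F =>
      Nat.beq s.B F && allLt C.g fun x => Nat.beq (s.get x) F

/-- The group in which the certificate is read. -/
structure Model (C : Cert) (Q : Type*) [Group Q] where
  /-- the letters -/
  gen : Nat → Q
  gen_iv : ∀ x < C.g, C.iv x < C.g ∧ gen (C.iv x) = (gen x)⁻¹
  pt_iv : ∀ x < C.g, ∀ i, C.pt x (C.pt (C.iv x) i) = i ∧ C.pt (C.iv x) (C.pt x i) = i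
  rels_eq : ∀ r ∈ C.rels, (r.map gen).prod = 1
  rels_pt : ∀ r ∈ C.rels, ∀ i, C.ptW r i = i
  /-- the subgroup -/
  sub : Subgroup Q
  subs_mem : ∀ x ∈ C.subs, gen x ∈ sub
  closure_gen : Subgroup.closure {q | ∃ x < C.g, gen x = q} = ⊤

variable {C} {Q : Type*} [Group Q] (M : Model C Q)

/-- the invariant with given values of the cosets -/
structure Inv (s : St) (val : Nat → Q) : Prop where
  zero_mem : s.B.testBit 0 = true
  val_zero : val 0 = 1
  reach : ∀ c, s.B.testBit c = true → ∃ w, C.ptW w 0 = c
  known : ∀ x < C.g, ∀ c, (s.get x).testBit c = true → s.B.testBit c = true ∧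
    s.B.testBit (C.pt x c) = true ∧ val c * M.gen x * (val (C.pt x c))⁻¹ ∈ M.sub

/-- a state is good -/
def Good (s : St) : Prop := ∃ val, Inv M s val

theorem testBit_land_one {n : Nat} (h : Nat.beq (Nat.land n 1) 1 = true) : n.testBit 0 = true := by
  have := Nat.eq_of_beq_eq_true h
  change n &&& 1 = 1 at this
  rw [Nat.and_one_is_mod] at this
  simp [Nat.testBit_zero, this]

theorem okNets_of_okBase (h : C.okBase = true) : C.okNets = true := by
  simp only [okBase, Bool.and_eq_true] at h
  exact h.1

theorem good_init (h : C.okBase = true) : Good M C.init := by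
  have hn := okNets_of_okBase h
  simp only [okBase, Bool.and_eq_true, List.all_eq_true, Nat.blt_eq] at h
  refine ⟨fun _ => 1, ⟨by simp [init], rfl, ?_, ?_⟩⟩
  · intro c hc
    rcases Nat.eq_zero_or_pos c with rfl | hp
    · exact ⟨[], rfl⟩
    · simp [init, Nat.testBit_one_eq_true_iff_self_eq_zero, hp.ne'] at hc
  · intro x hx c hc
    rw [St.get, init, List.getD_eq_getElem?_getD, List.getElem?_map,
      List.getElem?_range hx, Option.map_some, Option.getD_some] at hc
    cases hb : (C.subs.contains x || C.subs.contains (C.iv x))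
    · rw [hb, cond_false, Nat.zero_testBit] at hc
      simp at hc
    rw [hb, cond_true, Nat.testBit_one_eq_true_iff_self_eq_zero] at hc
    subst hc
    have key : C.pt x 0 = 0 ∧ M.gen x ∈ M.sub := by
      simp only [Bool.or_eq_true, List.contains_iff_mem] at hb
      rcases hb with hb | hb
      · obtain ⟨⟨-, h1⟩, -⟩ := h.2 x hb
        refine ⟨?_, M.subs_mem x hb⟩
        have := testBit_land_one h1
        rwa [Sys.testBit_act hn, Nat.testBit_one_eq_true_iff_self_eq_zero] at this
      · obtain ⟨⟨⟨hy, hii⟩, -⟩, h2⟩ := h.2 _ hb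
        have h2' := testBit_land_one h2
        rw [Sys.testBit_act hn, Nat.testBit_one_eq_true_iff_self_eq_zero] at h2'
        have e1 := (M.gen_iv x hx).2
        have h3 := M.subs_mem _ hb
        rw [e1] at h3
        refine ⟨?_, inv_mem_iff.1 h3⟩
        have e2 := (M.pt_iv _ hy 0).2
        obtain ⟨h4, -⟩ := h.2 _ hb
        have h5 := testBit_land_one h4.2
        rw [Sys.testBit_act hn, Nat.testBit_one_eq_true_iff_self_eq_zero] at h5
        have e3 := (M.pt_iv x hx 0).1
        rwa [h5] at e3
    simp [init, key.1, key.2]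

theorem path_sound (hn : C.okNets = true) {s : St} {val : Nat → Q} (I : Inv M s val) :
    ∀ w, (∀ x ∈ w, x < C.g) → ∀ c, (C.path s w).testBit c = true → s.B.testBit c = true ∧
      val c * (w.map M.gen).prod * (val (C.ptW w c))⁻¹ ∈ M.sub
  | [], _, c, hc => ⟨hc, by simp [Sys.ptW]⟩
  | [x], hw, c, hc => by
    obtain ⟨h1, -, h3⟩ := I.known x (hw x (List.mem_cons_self ..)) c hc
    exact ⟨h1, by simpa [Sys.ptW] using h3⟩
  | x :: y :: w, hw, c, hc => by
    rw [path, force_eq] at hc
    change (s.get x &&& C.act x (C.path s (y :: w))).testBit c = true at hc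
    rw [Nat.testBit_and, Bool.and_eq_true, Sys.testBit_act hn] at hc
    obtain ⟨h1, -, h3⟩ := I.known x (hw x (List.mem_cons_self ..)) c hc.1
    obtain ⟨-, h4⟩ := path_sound hn I (y :: w) (fun z hz => hw z (List.mem_cons_of_mem _ hz)) _ hc.2
    exact ⟨h1, by simpa [Sys.ptW, mul_assoc] using M.sub.mul_mem h3 h4⟩

theorem get_orAt {l : List Nat} {B B' x v y i : Nat}
    (h : ((⟨B', orAt l x v⟩ : St).get y).testBit i = true) :
    ((⟨B, l⟩ : St).get y).testBit i = true ∨ (y = x ∧ v.testBit i = true) :=
  testBit_orAt l x v y i h

theorem good_stepDef (hn : C.okNets = true) {s : St} (G : Good M s) {x : Nat} (hx : x < C.g) :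
    Good M (C.stepDef s x) := by
  obtain ⟨val, I⟩ := G
  obtain ⟨hy, hgy⟩ := M.gen_iv x hx
  set D := Nat.xor s.B (Nat.land s.B (C.act x s.B)) with hD
  set D' := C.act (C.iv x) D with hD'
  have e : C.stepDef s x = ⟨Nat.lor s.B D', orAt (orAt s.K x D) (C.iv x) D'⟩ := by
    simp only [stepDef, force_eq, ← hD, ← hD']
  have mem : ∀ c, D.testBit c = true ↔ s.B.testBit c = true ∧ s.B.testBit (C.pt x c) = false := by
    intro c
    change (s.B ^^^ (s.B &&& C.act x s.B)).testBit c = true ↔ _
    rw [Nat.testBit_xor, Nat.testBit_and, Sys.testBit_act hn]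
    cases s.B.testBit c <;> cases s.B.testBit (C.pt x c) <;> decide
  have mem' : ∀ d, D'.testBit d = true → s.B.testBit (C.pt (C.iv x) d) = true ∧
      s.B.testBit d = false := by
    intro d hd
    rw [hD', Sys.testBit_act hn, mem] at hd
    exact ⟨hd.1, by simpa [(M.pt_iv x hx d).1] using hd.2⟩
  let val' := fun d => if D'.testBit d then val (C.pt (C.iv x) d) * M.gen x else val d
  have old : ∀ c, s.B.testBit c = true → val' c = val c := fun c hc => by
    have : D'.testBit c = false := by
      by_contra h
      simp [(mem' c (by simpa using h)).2] at hc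
    simp [val', this]
  have hB : ∀ c, (Nat.lor s.B D').testBit c = (s.B.testBit c || D'.testBit c) := fun c =>
    Nat.testBit_or ..
  refine ⟨val', e ▸ ⟨?_, ?_, ?_, ?_⟩⟩
  · rw [hB, I.zero_mem, Bool.true_or]
  · rw [old 0 I.zero_mem, I.val_zero]
  · intro c hc
    rw [hB, Bool.or_eq_true] at hc
    rcases hc with hc | hc
    · exact I.reach c hc
    · obtain ⟨w, hw⟩ := I.reach _ (mem' c hc).1
      exact ⟨w ++ [x], by rw [Sys.ptW_append, hw]; exact (M.pt_iv x hx c).1⟩
  · intro z hz c hc
    rcases get_orAt (B := s.B) hc with hc1 | ⟨hzy, hc1⟩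
    · rcases get_orAt (B := s.B) hc1 with hc2 | ⟨hzx, hc2⟩
      · obtain ⟨h1, h2, h3⟩ := I.known z hz c hc2
        exact ⟨by simp [hB, h1], by simp [hB, h2], by rwa [old c h1, old _ h2]⟩
      · subst hzx
        have h1 := (mem c).1 hc2
        have h2 : D'.testBit (C.pt z c) = true := by
          rw [hD', Sys.testBit_act hn, (M.pt_iv z hx c).2, hc2]
        refine ⟨by simp [hB, h1.1], by simp [hB, h2], ?_⟩
        simp only [old c h1.1, val', h2, if_true, (M.pt_iv z hx c).2]
        simp
    · subst hzy
      obtain ⟨h1, -⟩ := mem' c hc1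
      refine ⟨by simp [hB, hc1], by simp [hB, h1], ?_⟩
      simp only [old _ h1, val', hc1, if_true, hgy]
      simp

theorem good_stepRot (hn : C.okNets = true) {s : St} (G : Good M s) {x : Nat} {w : List Nat}
    (hx : x < C.g) (hw : ∀ y ∈ w, y < C.g) (hp : ((x :: w).map M.gen).prod = 1)
    (hid : ∀ i, C.ptW (x :: w) i = i) : Good M (C.stepRot s x w) := by
  obtain ⟨val, I⟩ := G
  obtain ⟨hy, hgy⟩ := M.gen_iv x hx
  set P := C.path s w with hP
  set D := Nat.land s.B (C.act x P) with hD
  have eD : Nat.land (C.act (C.iv x) s.B) P = C.act (C.iv x) D := by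
    refine Nat.eq_of_testBit_eq fun c => ?_
    change (C.act (C.iv x) s.B &&& P).testBit c = (C.act (C.iv x) (s.B &&& C.act x P)).testBit c
    simp only [Nat.testBit_and, Sys.testBit_act hn, (M.pt_iv x hx c).1]
  have e : C.stepRot s x w = ⟨s.B, orAt (orAt s.K x D) (C.iv x) (C.act (C.iv x) D)⟩ := by
    simp only [stepRot, force_eq, ← hP, ← hD, eD]
  have key : ∀ c, D.testBit c = true → s.B.testBit c = true ∧ s.B.testBit (C.pt x c) = true ∧
      val c * M.gen x * (val (C.pt x c))⁻¹ ∈ M.sub := by
    intro c hc
    change (s.B &&& C.act x P).testBit c = true at hc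
    rw [Nat.testBit_and, Bool.and_eq_true, Sys.testBit_act hn] at hc
    obtain ⟨h1, h2⟩ := path_sound M hn I w hw _ hc.2
    refine ⟨hc.1, h1, ?_⟩
    have h3 : C.ptW w (C.pt x c) = c := hid c
    have h4 : (w.map M.gen).prod = (M.gen x)⁻¹ := by
      refine eq_inv_of_mul_eq_one_right ?_
      simpa using hp
    rw [h3, h4] at h2
    simpa [mul_assoc] using M.sub.inv_mem h2
  refine ⟨val, e ▸ ⟨I.zero_mem, I.val_zero, I.reach, ?_⟩⟩
  intro z hz c hc
  rcases get_orAt (B := s.B) hc with hc1 | ⟨hzy, hc1⟩
  · rcases get_orAt (B := s.B) hc1 with hc2 | ⟨hzx, hc2⟩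
    · exact I.known z hz c hc2
    · exact hzx ▸ key c hc2
  · subst hzy
    rw [Sys.testBit_act hn] at hc1
    obtain ⟨h1, h2, h3⟩ := key _ hc1
    rw [(M.pt_iv x hx c).1] at h2 h3
    refine ⟨h2, h1, ?_⟩
    rw [hgy]
    simpa [mul_assoc] using M.sub.inv_mem h3

/-- every relator only uses letters -/
noncomputable def okLetters (C : Cert) : Bool :=
  C.rels.all fun r => r.all fun x => Nat.blt x C.g

theorem good_step (hn : C.okNets = true) (hl : C.okLetters = true) {s s' : St} (G : Good M s)
    {o : Op} (h : C.step s o = some s') : Good M s' := by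
  cases o with
  | define x =>
    simp only [step] at h
    cases hx : Nat.blt x C.g <;> simp [hx] at h
    subst h
    exact good_stepDef M hn G (Nat.blt_eq.mp hx)
  | rot r i =>
    simp only [step] at h
    split at h
    · simp at h
    rename_i x w hw
    cases hb : (Nat.blt x C.g && Nat.blt r C.rels.length) <;> simp [hb] at h
    subst h
    simp only [Bool.and_eq_true, Nat.blt_eq] at hb
    have hr : C.rels.getD r [] ∈ C.rels := by
      rw [List.getD_eq_getElem?_getD, List.getElem?_eq_getElem hb.2]
      exact List.getElem_mem _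
    have hl' : ∀ y ∈ x :: w, y < C.g := by
      intro y hy
      rw [← hw] at hy
      simp only [okLetters, List.all_eq_true, Nat.blt_eq] at hl
      refine hl _ hr y ?_
      rcases List.mem_append.1 hy with hy | hy
      · exact List.mem_of_mem_drop hy
      · exact List.mem_of_mem_take hy
    refine good_stepRot M hn G hb.1 (fun y hy => hl' y (List.mem_cons_of_mem _ hy)) ?_ ?_
    · have h := M.rels_eq _ hr
      rw [← List.take_append_drop i (C.rels.getD r []), List.map_append, List.prod_append] at h
      rw [← hw, List.map_append, List.prod_append]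
      exact mul_eq_one_comm.1 h
    · rw [← hw]
      exact fun j => Sys.ptW_rotate hn (M.rels_pt _ hr) i j

theorem good_run (hn : C.okNets = true) (hl : C.okLetters = true) :
    ∀ (l : List Op) {s s' : St}, Good M s → C.run l s = some s' → Good M s'
  | [], s, s', G, h => by
    simp only [run, Option.some.injEq] at h
    exact h ▸ G
  | o :: l, s, s', G, h => by
    simp only [run] at h
    split at h
    · simp at h
    · rename_i t ht
      exact good_run hn hl l (good_step M hn hl G ht) h

theorem good_of_isSt (hn : C.okNets = true) (hl : C.okLetters = true) {l : List Op} {s : St}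
    {B : Nat} {K : List Nat} (G : Good M s) (h : isSt (C.run l s) B K = true) : Good M ⟨B, K⟩ := by
  cases hr : C.run l s with
  | none => simp [hr, isSt] at h
  | some t =>
    simp only [hr, isSt, Bool.and_eq_true, decide_eq_true_eq] at h
    have := good_run M hn hl l G hr
    rw [← Nat.eq_of_beq_eq_true h.1, ← h.2]
    exact this

theorem of_isFull (hn : C.okNets = true) (hl : C.okLetters = true) {l : List Op} {s : St}
    {n : Nat} (G : Good M s) (h : C.isFull (C.run l s) n = true) :
    M.sub.index ≤ n ∧ M.sub.FiniteIndex ∧ ∀ c < n, ∃ w, C.ptW w 0 = c := by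
  cases hr : C.run l s with
  | none => simp [hr, isFull] at h
  | some t =>
    obtain ⟨val, I⟩ := good_run M hn hl l G hr
    simp only [hr, isFull, force_eq, Bool.and_eq_true] at h
    have bit : ∀ m c, Nat.beq m (Nat.sub (Nat.shiftLeft 1 n) 1) = true →
        m.testBit c = decide (c < n) := by
      intro m c hm
      rw [Nat.eq_of_beq_eq_true hm]
      change ((1 <<< n) - 1).testBit c = _
      rw [Nat.one_shiftLeft, Nat.testBit_two_pow_sub_one]
    have hB := fun c => bit t.B c h.1
    have hK := fun x (hx : x < C.g) c => bit (t.get x) c (allLt_spec h.2 x hx)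
    have hpos : 0 < n := by simpa [hB] using I.zero_mem
    have key : ∀ q ∈ Subgroup.closure {q | ∃ x < C.g, M.gen x = q},
        ∀ c < n, ∃ d < n, val c * q * (val d)⁻¹ ∈ M.sub := by
      intro q hq
      have hstep : ∀ x < C.g, ∀ c < n, ∃ d < n, val c * M.gen x * (val d)⁻¹ ∈ M.sub := by
        intro x hx c hc
        obtain ⟨-, h2, h3⟩ := I.known x hx c (by simp [hK x hx, hc])
        exact ⟨_, by simpa [hB] using h2, h3⟩
      induction hq using Subgroup.closure_induction'' with
      | mem q hq =>
        obtain ⟨x, hx, rfl⟩ := hq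
        exact hstep x hx
      | inv_mem q hq =>
        obtain ⟨x, hx, rfl⟩ := hq
        intro c hc
        obtain ⟨h1, h2⟩ := M.gen_iv x hx
        exact h2 ▸ hstep _ h1 c hc
      | one => exact fun c hc => ⟨c, hc, by simp⟩
      | mul a b _ _ ha hb =>
        intro c hc
        obtain ⟨d, hd, h1⟩ := ha c hc
        obtain ⟨e, he, h2⟩ := hb d hd
        exact ⟨e, he, by simpa [mul_assoc] using M.sub.mul_mem h1 h2⟩
    let f : Fin n → Q ⧸ M.sub := fun c => ((val c)⁻¹ : Q)
    have hf : Function.Surjective f := by
      intro y
      obtain ⟨q, rfl⟩ := QuotientGroup.mk_surjective y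
      obtain ⟨c, hc, hq⟩ := key q⁻¹ (by rw [M.closure_gen]; trivial) 0 hpos
      rw [I.val_zero, one_mul] at hq
      exact ⟨⟨c, hc⟩, QuotientGroup.eq.2 (by simpa using M.sub.inv_mem hq)⟩
    have : Finite (Q ⧸ M.sub) := Finite.of_surjective f hf
    refine ⟨?_, Subgroup.finiteIndex_of_finite_quotient, fun c hc => I.reach c (by simp [hB, hc])⟩
    rw [Subgroup.index_eq_card]
    simpa using Nat.card_le_card_of_surjective f hf

end Cert

end CfsgLib.BitPerm
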