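import Cfsg.Agent.Lib.BitPerm.Rep

/-!
Orbits as bit sets.
-/

namespace CfsgLib.BitPerm

namespace Sys

variable (S : Sys)

/-- add the images under the listed letters one after another -/
noncomputable def grow : List Nat → Nat → Nat
  | [], B => B
  | x :: l, B => force (Nat.lor B (S.act x B)) fun B' => grow l B'

/-- the set grown from one point is the interval `[lo, hi)` -/
noncomputable def okOrbit (ops : List Nat) (p lo hi : Nat) : Bool :=
  Nat.beq (S.grow ops (Nat.shiftLeft 1 p)) (Nat.sub (Nat.shiftLeft 1 hi) (Nat.shiftLeft 1 lo))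

/-- the interval `[lo, hi)` is invariant under the listed letters -/
noncomputable def okClosed (letters : List Nat) (lo hi : Nat) : Bool :=
  force (Nat.sub (Nat.shiftLeft 1 hi) (Nat.shiftLeft 1 lo)) fun Y =>
    letters.all fun x => Nat.beq (S.act x Y) Y

theorem testBit_interval {lo hi : Nat} (h : lo ≤ hi) (i : Nat) :
    (Nat.sub (Nat.shiftLeft 1 hi) (Nat.shiftLeft 1 lo)).testBit i = decide (lo ≤ i ∧ i < hi) := by
  change ((1 <<< hi) - (1 <<< lo)).testBit i = _
  have e : (1 <<< hi) - (1 <<< lo) = (2 ^ (hi - lo) - 1) <<< lo := by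
    rw [Nat.one_shiftLeft, Nat.one_shiftLeft, Nat.shiftLeft_eq, Nat.sub_mul, one_mul, ← pow_add,
      Nat.sub_add_cancel h]
  rw [e, Nat.testBit_shiftLeft, Nat.testBit_two_pow_sub_one]
  by_cases h1 : lo ≤ i
  · simp [h1]
    omega
  · simp [h1]

variable {S}

theorem testBit_grow (h : S.okNets = true) : ∀ (l : List Nat) (B i : Nat),
    (S.grow l B).testBit i = true →
      ∃ w, (∀ x ∈ w, x ∈ l) ∧ B.testBit (S.ptW w i) = true
  | [], B, i, hi => ⟨[], by simp, hi⟩
  | x :: l, B, i, hi => by
    rw [grow, force_eq] at hi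
    obtain ⟨w, hw, h1⟩ := testBit_grow h l _ i hi
    change (B ||| S.act x B).testBit (S.ptW w i) = true at h1
    rw [Nat.testBit_or, Bool.or_eq_true, testBit_act h] at h1
    rcases h1 with h1 | h1
    · exact ⟨w, fun y hy => List.mem_cons_of_mem _ (hw y hy), h1⟩
    · refine ⟨w ++ [x], fun y hy => ?_, by simpa [ptW_append, ptW] using h1⟩
      rcases List.mem_append.1 hy with hy | hy
      · exact List.mem_cons_of_mem _ (hw y hy)
      · simp [List.mem_singleton.1 hy]

/-- every point of the interval reaches `p` by a word in the letters used -/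
theorem orbit_reach (h : S.okNets = true) {ops : List Nat} {p lo hi : Nat} (hle : lo ≤ hi)
    (ho : S.okOrbit ops p lo hi = true) {i : Nat} (h1 : lo ≤ i) (h2 : i < hi) :
    ∃ w, (∀ x ∈ w, x ∈ ops) ∧ S.ptW w i = p := by
  obtain ⟨w, hw, hb⟩ := testBit_grow h ops (Nat.shiftLeft 1 p) i (by
    rw [Nat.eq_of_beq_eq_true ho, testBit_interval hle]; simp [h1, h2])
  refine ⟨w, hw, ?_⟩
  change (1 <<< p).testBit (S.ptW w i) = true at hb
  rw [Nat.one_shiftLeft, Nat.testBit_two_pow] at hb
  simpa using (of_decide_eq_true hb).symm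

theorem closed_pt (h : S.okNets = true) {letters : List Nat} {lo hi : Nat} (hle : lo ≤ hi)
    (ho : S.okClosed letters lo hi = true) {x : Nat} (hx : x ∈ letters) (i : Nat) :
    (lo ≤ S.pt x i ∧ S.pt x i < hi) ↔ (lo ≤ i ∧ i < hi) := by
  rw [okClosed, force_eq, List.all_eq_true] at ho
  have := congrArg (fun B => Nat.testBit B i) (Nat.eq_of_beq_eq_true (ho x hx))
  simp only [testBit_act h, testBit_interval hle, decide_eq_decide] at this
  exact this

theorem closed_ptW (h : S.okNets = true) {letters : List Nat} {lo hi : Nat} (hle : lo ≤ hi)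
    (ho : S.okClosed letters lo hi = true) :
    ∀ w, (∀ x ∈ w, x ∈ letters) → ∀ i, (lo ≤ S.ptW w i ∧ S.ptW w i < hi) ↔ (lo ≤ i ∧ i < hi)
  | [], _, _ => Iff.rfl
  | x :: w, hw, i => by
    rw [ptW, closed_ptW h hle ho w fun y hy => hw y (List.mem_cons_of_mem _ hy),
      closed_pt h hle ho (hw x (List.mem_cons_self ..))]

end Sys

end CfsgLib.BitPerm
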