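import Cfsg.Agent.Lib.BitPerm.Action

/-!
Points outside an initial segment which no letter moves.
-/

namespace CfsgLib.BitPerm

namespace Sys

variable (S : Sys)

/-- the planes restricted to the points from `n` on are fixed by a letter -/
noncomputable def okOutside (n x : Nat) : Bool :=
  allLt S.k fun j =>
    force (Nat.shiftLeft (Nat.shiftRight (plane j S.k) n) n) fun P => Nat.beq (S.act x P) P

variable {S}

theorem pt_of_outside (h : S.okNets = true) {n x : Nat} (hi : Inside S n)
    (ho : S.okOutside n x = true) {i : Nat} (hn : n ≤ i) : S.pt x i = i := by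
  by_cases hk : 2 ^ S.k ≤ i
  · exact Net.pt_of_le (ok_net h x) hk
  · push Not at hk
    have hlt : S.pt x i < 2 ^ S.k := by
      by_contra hc
      have e := Net.pt_of_le (ok_net h x) (not_lt.1 hc)
      have e2 : S.pt x i = i := by
        have := congrArg (Net.pt (S.net x).reverse) e
        simp only [pt] at this ⊢
        rwa [Net.pt_reverse (ok_net h x), Net.pt_reverse (ok_net h x)] at this
      omega
    have hge : n ≤ S.pt x i := by
      by_contra hc
      have := (hi x i).1 (not_le.1 hc)
      omega
    refine Nat.eq_of_testBit_eq fun j => ?_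
    by_cases hj : j < S.k
    · have e := allLt_spec ho j hj
      rw [force_eq] at e
      have e' := congrArg (fun B => Nat.testBit B i) (Nat.eq_of_beq_eq_true e)
      change (S.act x (((plane j S.k) >>> n) <<< n)).testBit i =
        (((plane j S.k) >>> n) <<< n).testBit i at e'
      simpa [testBit_act h, Nat.testBit_shiftLeft, Nat.testBit_shiftRight, testBit_plane, hn, hge,
        hk, hlt, Nat.add_sub_cancel' hn, Nat.add_sub_cancel' hge] using e'
    · have h2 : 2 ^ S.k ≤ 2 ^ j := Nat.pow_le_pow_right (by norm_num) (not_lt.1 hj)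
      rw [Nat.testBit_lt_two_pow (lt_of_lt_of_le hlt h2), Nat.testBit_lt_two_pow (lt_of_lt_of_le hk h2)]

theorem ptW_of_outside (h : S.okNets = true) {n : Nat} (hi : Inside S n) {letters : List Nat}
    (ho : ∀ x ∈ letters, S.okOutside n x = true) :
    ∀ w, (∀ x ∈ w, x ∈ letters) → ∀ i, n ≤ i → S.ptW w i = i
  | [], _, _, _ => rfl
  | x :: w, hw, i, hn => by
    rw [ptW, pt_of_outside h hi (ho x (hw x (List.mem_cons_self ..))) hn,
      ptW_of_outside h hi ho w (fun y hy => hw y (List.mem_cons_of_mem _ hy)) i hn]

end Sys

end CfsgLib.BitPerm
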