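import Cfsg.Agent.Lib.BitPerm.Rep

/-!
Two stages with the same distance packed into one numeral.
-/

namespace CfsgLib.BitPerm

/-- the stage with distance `2 ^ j` packed in the positions without bit `j` -/
noncomputable def Stage.lower (k j W : Nat) : Stage :=
  ⟨Nat.pow 2 j, Nat.sub W (Nat.land W (plane j k))⟩

/-- the stage with distance `2 ^ j` packed in the positions with bit `j` -/
noncomputable def Stage.upper (k j W : Nat) : Stage :=
  ⟨Nat.pow 2 j, Nat.shiftRight (Nat.land W (plane j k)) (Nat.pow 2 j)⟩

end CfsgLib.BitPerm
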