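import Cfsg.Agent.Lib.BitPerm.Basic

/-!
Systems of networks, one for each letter, and the permutations given by words.
-/

namespace CfsgLib.BitPerm

/-- evaluate a numeral before using it -/
noncomputable def force {α : Sort*} (n : Nat) (f : Nat → α) : α :=
  Nat.rec (motive := fun _ => α) (f 0) (fun m _ => f (Nat.add m 1)) n

theorem force_eq {α : Sort*} (n : Nat) (f : Nat → α) : force n f = f n := by
  cases n <;> rfl

/-- conjunction over all numbers below a bound -/
noncomputable def allLt (n : Nat) (f : Nat → Bool) : Bool :=
  Nat.rec (motive := fun _ => Bool) true (fun i r => r && f i) n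

theorem allLt_spec {n : Nat} {f : Nat → Bool} (h : allLt n f = true) : ∀ i < n, f i = true := by
  induction n with
  | zero => omega
  | succ n ih =>
    have h' : (allLt n f && f n) = true := h
    simp only [Bool.and_eq_true] at h'
    intro i hi
    rcases Nat.lt_succ_iff_lt_or_eq.1 hi with hi | rfl
    · exact ih h'.1 i hi
    · exact h'.2

/-- networks for some letters, with the inverse of each letter -/
structure Sys where
  /-- the points are the numbers below `2 ^ k` -/
  k : Nat
  /-- the networks -/
  nets : List Net
  /-- index of the inverse letter -/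
  inv : List Nat

namespace Sys

variable (S : Sys)

/-- number of letters -/
noncomputable def g : Nat := S.nets.length

/-- network of a letter -/
noncomputable def net (x : Nat) : Net := S.nets.getD x []

/-- inverse letter -/
noncomputable def iv (x : Nat) : Nat := S.inv.getD x 0

/-- action of a letter on a bit set -/
noncomputable def act (x B : Nat) : Nat := Net.act (S.net x) B

/-- action of a letter on points -/
noncomputable def pt (x i : Nat) : Nat := Net.pt (S.net x) i

/-- action of a word on a bit set -/
noncomputable def actW : List Nat → Nat → Nat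
  | [], B => B
  | x :: w, B => force (actW w B) fun C => S.act x C

/-- action of a word on points -/
noncomputable def ptW : List Nat → Nat → Nat
  | [], i => i
  | x :: w, i => ptW w (S.pt x i)

/-- the networks are networks on `2 ^ S.k` points -/
noncomputable def okNets : Bool := S.nets.all fun l => Net.ok (Nat.pow 2 S.k) l

/-- a word fixes every plane of bits in a range -/
noncomputable def okWord (w : List Nat) (lo len : Nat) : Bool :=
  allLt len fun j => force (plane (Nat.add lo j) S.k) fun P => Nat.beq (S.actW w P) P

variable {S}

theorem ok_net (h : S.okNets = true) (x : Nat) : Net.ok (2 ^ S.k) (S.net x) = true := by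
  by_cases hx : x < S.nets.length
  · simp only [okNets, List.all_eq_true] at h
    rw [net, List.getD_eq_getElem?_getD, List.getElem?_eq_getElem hx]
    exact h _ (List.getElem_mem hx)
  · simp [net, List.getD_eq_getElem?_getD, List.getElem?_eq_none (not_lt.1 hx), Net.ok]

theorem testBit_act (h : S.okNets = true) (x B i : Nat) :
    (S.act x B).testBit i = B.testBit (S.pt x i) :=
  Net.testBit_act (ok_net h x) B i

theorem actW_cons (x : Nat) (w : List Nat) (B : Nat) : S.actW (x :: w) B = S.act x (S.actW w B) := by
  rw [actW, force_eq]

theorem testBit_actW (h : S.okNets = true) :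
    ∀ w B i, (S.actW w B).testBit i = B.testBit (S.ptW w i)
  | [], _, _ => rfl
  | x :: w, B, i => by rw [actW_cons, testBit_act h, testBit_actW h w, ptW]

theorem ptW_append : ∀ u w i, S.ptW (u ++ w) i = S.ptW w (S.ptW u i)
  | [], _, _ => rfl
  | x :: u, w, i => by rw [List.cons_append, ptW, ptW, ptW_append u w]

theorem ptW_of_le (h : S.okNets = true) : ∀ w {i}, 2 ^ S.k ≤ i → S.ptW w i = i
  | [], _, _ => rfl
  | x :: w, i, hi => by
    rw [ptW, pt, Net.pt_of_le (ok_net h x) hi, ptW_of_le h w hi]

theorem ptW_bijective (h : S.okNets = true) : ∀ w, Function.Bijective (S.ptW w)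
  | [] => Function.bijective_id
  | x :: w => by
    have e : Function.Bijective (S.pt x) :=
      Function.bijective_iff_has_inverse.2 ⟨Net.pt (S.net x).reverse,
        fun i => Net.pt_reverse (ok_net h x) i, fun i => Net.pt_reverse' (ok_net h x) i⟩
    exact (ptW_bijective h w).comp e

/-- the planes in `[0, S.k)` are fixed -/
def PlanesFixed (S : Sys) (w : List Nat) (lo hi : Nat) : Prop :=
  ∀ j, lo ≤ j → j < hi → S.actW w (plane j S.k) = plane j S.k

theorem planesFixed_of_okWord {w : List Nat} {lo len : Nat} (h : S.okWord w lo len = true) :
    PlanesFixed S w lo (lo + len) := by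
  intro j h1 h2
  have := allLt_spec h (j - lo) (by omega)
  rw [force_eq, show Nat.add lo (j - lo) = j from Nat.add_sub_cancel' h1] at this
  exact Nat.eq_of_beq_eq_true this

theorem PlanesFixed.join {w : List Nat} {a b c : Nat} (h : PlanesFixed S w a b)
    (h' : PlanesFixed S w b c) : PlanesFixed S w a c := by
  intro j h1 h2
  rcases lt_or_ge j b with hj | hj
  · exact h j h1 hj
  · exact h' j hj h2

theorem ptW_eq_self (h : S.okNets = true) {w : List Nat} (hw : PlanesFixed S w 0 S.k) (i : Nat) :
    S.ptW w i = i := by
  by_cases hi : i < 2 ^ S.k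
  · have hlt : S.ptW w i < 2 ^ S.k := by
      by_contra hn
      have e := (ptW_bijective h w).1 (ptW_of_le h w (not_lt.1 hn))
      omega
    refine Nat.eq_of_testBit_eq fun j => ?_
    by_cases hj : j < S.k
    · have := congrArg (fun B => Nat.testBit B i) (hw j (Nat.zero_le j) hj)
      simpa [testBit_actW h, testBit_plane, hi, hlt] using this
    · rw [Nat.testBit_lt_two_pow (lt_of_lt_of_le hlt (Nat.pow_le_pow_right (by norm_num) (by omega))),
        Nat.testBit_lt_two_pow (lt_of_lt_of_le hi (Nat.pow_le_pow_right (by norm_num) (by omega)))]
  · exact ptW_of_le h w (not_lt.1 hi)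

theorem ptW_rotate (h : S.okNets = true) {w : List Nat} (hw : ∀ i, S.ptW w i = i) (n i : Nat) :
    S.ptW (w.drop n ++ w.take n) i = i := by
  obtain ⟨j, rfl⟩ := (ptW_bijective h (w.take n)).2 i
  rw [ptW_append]
  congr 1
  rw [← ptW_append, List.take_append_drop, hw]

/-- the permutation of a letter, inverse to the action on points -/
noncomputable def perm (h : S.okNets = true) (x : Nat) : Equiv.Perm Nat where
  toFun := Net.pt (S.net x).reverse
  invFun := S.pt x
  left_inv := fun i => Net.pt_reverse' (ok_net h x) i
  right_inv := fun i => Net.pt_reverse (ok_net h x) i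

theorem prod_symm_apply (h : S.okNets = true) :
    ∀ w i, ((w.map (perm h)).prod)⁻¹ i = S.ptW w i
  | [], i => rfl
  | x :: w, i => by
    rw [List.map_cons, List.prod_cons, mul_inv_rev, Equiv.Perm.mul_apply, prod_symm_apply h w]
    rfl

theorem prod_eq_one (h : S.okNets = true) {w : List Nat} (hw : ∀ i, S.ptW w i = i) :
    (w.map (perm h)).prod = 1 := by
  rw [← inv_eq_one]
  exact Equiv.ext fun i => by rw [prod_symm_apply h, hw, Equiv.Perm.one_apply]

end Sys

end CfsgLib.BitPerm
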